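import Mathlib
import Groth.Agent.Hensel.Branches

/-!
Over a strictly henselian discrete valuation ring of residue characteristic arbitrary and generic
characteristic zero, a field with a discrete valuation centred at the closed point has only a finite
algebraic part.
-/

set_option autoImplicit false
set_option linter.style.haveILetI false

universe u

open IsLocalRing

namespace Groth.Agent.MilnorFib

/-- If the residue extension is trivial, the powers of the uniformizer span modulo `ϖ ^ j`. -/
theorem exists_span_approx {V V' : Type u} [CommRing V] [CommRing V'] [Algebra V V'] (ϖ : V')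
    (hres : ∀ x : V', ∃ a : V, x - algebraMap V V' a ∈ Ideal.span {ϖ}) (j : ℕ) (x : V') :
    ∃ w ∈ Submodule.span V (Set.range fun i : Fin j => ϖ ^ (i : ℕ)), x - w ∈ Ideal.span {ϖ ^ j} := by
  induction j generalizing x with
  | zero => exact ⟨0, Submodule.zero_mem _, by simp⟩
  | succ j ih =>
    obtain ⟨w, hw, hxw⟩ := ih x
    obtain ⟨z, hz⟩ := Ideal.mem_span_singleton'.mp hxw
    obtain ⟨a, ha⟩ := hres z
    obtain ⟨y, hy⟩ := Ideal.mem_span_singleton'.mp ha
    refine ⟨w + a • ϖ ^ j, Submodule.add_mem _ ?_ ?_, Ideal.mem_span_singleton'.mpr ⟨y, ?_⟩⟩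
    · refine Submodule.span_mono ?_ hw
      rintro _ ⟨i, rfl⟩
      exact ⟨i.castSucc, rfl⟩
    · exact Submodule.smul_mem _ _ (Submodule.subset_span ⟨Fin.last j, rfl⟩)
    · rw [Algebra.smul_def, pow_succ]
      linear_combination hz + ϖ ^ j * hy

variable (V : Type u) [CommRing V] [IsDomain V] [IsDiscreteValuationRing V] [HenselianLocalRing V]
  [IsAlgClosed (ResidueField V)] [CharZero V]
  (K : Type u) [Field K] [Algebra V K] [IsFractionRing V K]
  (F : Type u) [Field F] [Algebra V F] [Algebra K F] [IsScalarTower V K F]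

include V in
/-- The degree of a finite subextension is at most the ramification in any discrete valuation. -/
theorem finrank_le_of_not_mem (O : ValuationSubring F) [IsDiscreteValuationRing O]
    (hV : ∀ v : V, algebraMap V F v ∈ O) (π : V) (hπ : Irreducible π)
    (hπO : (⟨algebraMap V F π, hV π⟩ : O) ∈ maximalIdeal O) (N : ℕ)
    (hN : (⟨algebraMap V F π, hV π⟩ : O) ∉ maximalIdeal O ^ (N + 1))
    (E : IntermediateField K F) [FiniteDimensional K E] : Module.finrank K E ≤ N := by
  haveI : CharZero K := charZero_of_injective_ringHom (IsFractionRing.injective V K)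
  haveI : Algebra.IsSeparable K E := inferInstance
  let V' := integralClosure V E
  haveI : Module.Finite V V' := IsIntegralClosure.finite V K E V'
  haveI : IsDomain V' := inferInstance
  haveI : IsLocalRing V' := Hensel.isLocalRing_of_integral_domain V V'
  haveI : IsDedekindDomain V' := integralClosure.isDedekindDomain V K E
  have hinjVE : Function.Injective (algebraMap V E) := by
    rw [IsScalarTower.algebraMap_eq V K E]
    exact (algebraMap K E).injective.comp (IsFractionRing.injective V K)
  have hinj : Function.Injective (algebraMap V V') := fun a b h => hinjVE (congrArg Subtype.val h)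
  haveI : IsLocalHom (algebraMap V V') :=
    RingHom.IsIntegral.isLocalHom (Algebra.IsIntegral.isIntegral (R := V) (A := V')) hinj
  have hπm : π ∈ maximalIdeal V := (mem_maximalIdeal π).mpr hπ.not_isUnit
  have hπ' : algebraMap V V' π ∈ maximalIdeal V' :=
    (mem_maximalIdeal _).mpr (map_nonunit (algebraMap V V') π hπm)
  have hπ0 : algebraMap V V' π ≠ 0 := fun h => hπ.ne_zero (hinj (by rw [h, map_zero]))
  have hnf : maximalIdeal V' ≠ ⊥ := fun h => hπ0 (by rwa [h, Ideal.mem_bot] at hπ')
  haveI : IsDiscreteValuationRing V' :=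
    ((IsDiscreteValuationRing.TFAE V' (fun hf => hnf (IsLocalRing.isField_iff_maximalIdeal_eq.mp hf))).out 0 2
      (a := IsDiscreteValuationRing V') (b := IsDedekindDomain V')).mpr ‹IsDedekindDomain V'›
  obtain ⟨ϖ, hϖ⟩ := IsDiscreteValuationRing.exists_irreducible V'
  obtain ⟨e, u, hu⟩ := IsDiscreteValuationRing.eq_unit_mul_pow_irreducible hπ0 hϖ
  have he0 : e ≠ 0 := by
    rintro rfl
    exact (mem_maximalIdeal _).mp hπ' (by rw [hu, pow_zero, mul_one]; exact u.isUnit)
  -- the map into the valuation ring
  have hmem : ∀ x : V', ((x : E) : F) ∈ O := fun x => by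
    letI : Algebra V O := ((algebraMap V F).codRestrict O.toSubring hV).toAlgebra
    haveI : IsScalarTower V O F := IsScalarTower.of_algebraMap_eq fun _ => rfl
    have h1 : IsIntegral V ((x : E) : F) := x.2.map (E.val.restrictScalars V)
    have h2 : IsIntegral O ((x : E) : F) := h1.tower_top
    obtain ⟨y, hy⟩ := IsIntegrallyClosed.isIntegral_iff.mp h2
    exact hy ▸ y.2
  let i : V' →+* O := ((algebraMap E F).comp (algebraMap V' E)).codRestrict O.toSubring hmem
  have hiπ : i (algebraMap V V' π) = ⟨algebraMap V F π, hV π⟩ :=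
    Subtype.ext (by
      change ((algebraMap V E π : E) : F) = algebraMap V F π
      rw [IsScalarTower.algebraMap_apply V K E, IsScalarTower.algebraMap_apply V K F]
      rfl)
  have hϖO : i ϖ ∈ maximalIdeal O := by
    refine (mem_maximalIdeal _).mpr fun hu' => (mem_maximalIdeal _).mp hπO ?_
    rw [← hiπ, hu, map_mul, map_pow]
    exact (u.isUnit.map i).mul (hu'.pow e)
  have heN : e ≤ N := by
    by_contra hlt
    refine hN (Ideal.pow_le_pow_right (Nat.succ_le_of_lt (not_le.mp hlt)) ?_)
    rw [← hiπ, hu, map_mul, map_pow]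
    exact Ideal.mul_mem_left _ _ (Ideal.pow_mem_pow hϖO e)
  refine le_trans ?_ heN
  -- spanning
  have hres : ∀ x : V', ∃ a : V, x - algebraMap V V' a ∈ Ideal.span {ϖ} := fun x => by
    haveI : Algebra.IsIntegral V (ResidueField V') :=
      Algebra.IsIntegral.trans V'
    haveI : Algebra.IsIntegral (ResidueField V) (ResidueField V') := Algebra.IsIntegral.tower_top V
    obtain ⟨b, hb⟩ := (IsAlgClosed.algebraMap_bijective_of_isIntegral (k := ResidueField V) (K := ResidueField V')).2 (residue V' x)
    obtain ⟨a, rfl⟩ := residue_surjective b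
    refine ⟨a, ?_⟩
    rw [← hϖ.maximalIdeal_eq, ← residue_eq_zero_iff, map_sub, ← hb, ResidueField.algebraMap_residue,
      sub_self]
  let W : Submodule V V' := Submodule.span V (Set.range fun k : Fin e => ϖ ^ (k : ℕ))
  have hW : W = ⊤ := by
    refine top_le_iff.mp (Submodule.le_of_le_smul_of_le_jacobson_bot (I := maximalIdeal V)
      Module.Finite.fg_top (maximalIdeal_le_jacobson _) fun x _ => ?_)
    obtain ⟨w, hw, hxw⟩ := exists_span_approx ϖ hres e x
    obtain ⟨z, hz⟩ := Ideal.mem_span_singleton'.mp hxw
    refine Submodule.mem_sup.mpr ⟨w, hw, π • (z * ↑u⁻¹), Submodule.smul_mem_smul hπm trivial, ?_⟩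
    have h1 : π • (z * (↑u⁻¹ : V')) = z * ϖ ^ e := by
      rw [Algebra.smul_def, hu]
      calc (u : V') * ϖ ^ e * (z * ↑u⁻¹) = z * ϖ ^ e * ((u : V') * ↑u⁻¹) := by ring
        _ = z * ϖ ^ e := by rw [Units.mul_inv, mul_one]
    rw [h1, hz]
    ring
  have htop : Submodule.span K (Set.range fun k : Fin e => ((ϖ ^ (k : ℕ) : V') : E)) = ⊤ := by
    refine top_le_iff.mp fun y _ => ?_
    haveI : IsFractionRing V' E := integralClosure.isFractionRing_of_finite_extension K E
    haveI : Algebra.IsAlgebraic V E := (IsFractionRing.comap_isAlgebraic_iff (A := V) (K := K) (C := E)).mpr inferInstance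
    obtain ⟨v, hv0, hv⟩ := (Algebra.IsAlgebraic.isAlgebraic (R := V) y).exists_integral_multiple
    have hmem' : ∀ x : V', (x : E) ∈ Submodule.span K (Set.range fun k : Fin e => ((ϖ ^ (k : ℕ) : V') : E)) := by
      intro x
      have hx : x ∈ W := hW ▸ trivial
      refine Submodule.span_induction ?_ ?_ ?_ ?_ hx
      · rintro _ ⟨k, rfl⟩
        exact Submodule.subset_span ⟨k, rfl⟩
      · exact Submodule.zero_mem _
      · exact fun a b _ _ ha hb => Submodule.add_mem _ ha hb
      · intro r a _ ha
        rw [SetLike.val_smul, ← IsScalarTower.algebraMap_smul K r]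
        exact Submodule.smul_mem _ _ ha
    have hvK : algebraMap V K v ≠ 0 := fun h => hv0 (IsFractionRing.injective V K (by rw [h, map_zero]))
    have := Submodule.smul_mem _ (algebraMap V K v)⁻¹ (hmem' ⟨v • y, hv⟩)
    rwa [show ((algebraMap V K v)⁻¹ • ((⟨v • y, hv⟩ : V') : E)) = y by
      change (algebraMap V K v)⁻¹ • (v • y) = y
      rw [← IsScalarTower.algebraMap_smul K v y, inv_smul_smul₀ hvK]] at this
  calc Module.finrank K E = Module.finrank K (⊤ : Submodule K E) := (finrank_top K E).symm
    _ ≤ e := by
      rw [← htop]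
      exact (finrank_range_le_card (R := K) (fun k : Fin e => ((ϖ ^ (k : ℕ) : V') : E))).trans
        (Fintype.card_fin e).le

include V in
/-- The algebraic closure of the base field in a field with a centred discrete valuation is finite. -/
theorem finiteDimensional_algebraicClosure (O : ValuationSubring F) [IsDiscreteValuationRing O]
    (hV : ∀ v : V, algebraMap V F v ∈ O) (π : V) (hπ : Irreducible π)
    (hπO : (⟨algebraMap V F π, hV π⟩ : O) ∈ maximalIdeal O) :
    FiniteDimensional K (algebraicClosure K F) := by
  classical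
  obtain ⟨N, hN⟩ : ∃ N, (⟨algebraMap V F π, hV π⟩ : O) ∉ maximalIdeal O ^ (N + 1) := by
    by_contra h
    push Not at h
    have h0 : (⟨algebraMap V F π, hV π⟩ : O) ∈ ⨅ n, maximalIdeal O ^ n := by
      rw [Ideal.mem_iInf]
      exact fun n => Ideal.pow_le_pow_right (Nat.le_succ n) (h n)
    rw [Ideal.iInf_pow_eq_bot_of_isLocalRing _ (maximalIdeal.isMaximal O).ne_top, Ideal.mem_bot] at h0
    refine hπ.ne_zero (IsFractionRing.injective V K ((algebraMap K F).injective ?_))
    rw [map_zero, map_zero, ← IsScalarTower.algebraMap_apply]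
    exact congrArg Subtype.val h0
  let P : ℕ → Prop := fun n => ∃ E : IntermediateField K F, FiniteDimensional K E ∧ Module.finrank K E = n
  have hPN : ∀ n, P n → n ≤ N := by
    rintro n ⟨E, hE, rfl⟩
    exact finrank_le_of_not_mem V K F O hV π hπ hπO N hN E
  have hP1 : P 1 := ⟨⊥, inferInstance, IntermediateField.finrank_bot⟩
  obtain ⟨E, hE, hEn⟩ := Nat.findGreatest_spec (P := P) (hPN 1 hP1) hP1
  have hle : algebraicClosure K F ≤ E := fun x hx => by
    rw [mem_algebraicClosure_iff] at hx
    haveI : FiniteDimensional K (IntermediateField.adjoin K {x}) :=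
      IntermediateField.adjoin.finiteDimensional hx.isIntegral
    haveI : FiniteDimensional K (E ⊔ IntermediateField.adjoin K {x} : IntermediateField K F) :=
      IntermediateField.finiteDimensional_sup _ _
    have h2 : Module.finrank K (E ⊔ IntermediateField.adjoin K {x} : IntermediateField K F) ≤
        Module.finrank K E :=
      hEn.symm ▸ Nat.le_findGreatest (hPN _ ⟨_, inferInstance, rfl⟩) ⟨_, inferInstance, rfl⟩
    have := IntermediateField.eq_of_le_of_finrank_le (le_sup_left : E ≤ E ⊔ IntermediateField.adjoin K {x}) h2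
    exact this ▸ (le_sup_right : _ ≤ E ⊔ IntermediateField.adjoin K {x}) (IntermediateField.mem_adjoin_simple_self K x)
  exact FiniteDimensional.of_injective (IntermediateField.inclusion hle).toLinearMap
    (IntermediateField.inclusion hle).injective

end Groth.Agent.MilnorFib
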