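import Mathlib

/-!
Primes of `L ⊗ F` for an algebraic closure `L` and a field with finite algebraic part.
-/

set_option autoImplicit false
set_option linter.style.haveILetI false

universe u

open TensorProduct Polynomial

namespace Groth.Agent.MilnorFib

variable (K L F : Type u) [Field K] [CharZero K] [Field L] [Algebra K L] [IsAlgClosed L]
  [Algebra.IsAlgebraic K L] [Field F] [Algebra K F]

/-- Two primes of `L ⊗ F` that restrict to the same embedding of the algebraic part coincide. -/
theorem prime_le_of_agree (τ : algebraicClosure K F →ₐ[K] L) (Q Q' : Ideal (L ⊗[K] F)) [Q.IsPrime] [Q'.IsPrime]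
    (h : ∀ c, τ c ⊗ₜ[K] (1 : F) - 1 ⊗ₜ[K] (c : F) ∈ Q) (h' : ∀ c, τ c ⊗ₜ[K] (1 : F) - 1 ⊗ₜ[K] (c : F) ∈ Q') :
    Q ≤ Q' := by
  classical
  intro x hx
  obtain ⟨s, hs⟩ := TensorProduct.exists_finset x
  letI : Algebra (algebraicClosure K F) L := τ.toRingHom.toAlgebra
  haveI : IsScalarTower K (algebraicClosure K F) L := IsScalarTower.of_algebraMap_eq fun k => (τ.commutes k).symm
  haveI : Algebra.IsAlgebraic (algebraicClosure K F) L := Algebra.IsAlgebraic.tower_top (K := K) _
  haveI : CharZero (algebraicClosure K F) :=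
    charZero_of_injective_ringHom (algebraMap K (algebraicClosure K F)).injective
  haveI : FiniteDimensional (algebraicClosure K F)
      (IntermediateField.adjoin (algebraicClosure K F) (↑(s.image Prod.fst) : Set L)) :=
    IntermediateField.finiteDimensional_adjoin fun y _ => (Algebra.IsAlgebraic.isAlgebraic y).isIntegral
  set L0 := IntermediateField.adjoin (algebraicClosure K F) (↑(s.image Prod.fst) : Set L) with hL0
  haveI : CharZero L0 := charZero_of_injective_ringHom (algebraMap (algebraicClosure K F) L0).injective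
  obtain ⟨α, hα⟩ := Field.exists_primitive_element (algebraicClosure K F) L0
  have hαi : IsIntegral (algebraicClosure K F) (α : L) :=
    (Algebra.IsAlgebraic.isAlgebraic (α : L)).isIntegral
  have hrep : ∀ l ∈ L0, ∃ p : (algebraicClosure K F)[X], aeval (α : L) p = l := fun l hl => by
    have h1 : (⟨l, hl⟩ : L0) ∈ IntermediateField.adjoin (algebraicClosure K F) ({α} : Set L0) :=
      hα ▸ IntermediateField.mem_top
    rw [← IntermediateField.mem_toSubalgebra, IntermediateField.adjoin_simple_toSubalgebra_of_isAlgebraic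
      (Algebra.IsAlgebraic.isAlgebraic α), Algebra.adjoin_singleton_eq_range_aeval] at h1
    obtain ⟨p, hp⟩ := h1
    refine ⟨p, ?_⟩
    have := congrArg L0.val (show aeval α p = (⟨l, hl⟩ : L0) from hp)
    rwa [← Polynomial.aeval_algHom_apply] at this
  -- reduce `x` to a polynomial in `α` over `F`
  let ψ : F[X] →+* L ⊗[K] F :=
    eval₂RingHom (Algebra.TensorProduct.includeRight : F →ₐ[K] L ⊗[K] F).toRingHom ((α : L) ⊗ₜ[K] 1)
  let J : Ideal (L ⊗[K] F) :=
    Ideal.span (Set.range fun c : algebraicClosure K F => τ c ⊗ₜ[K] (1 : F) - 1 ⊗ₜ[K] (c : F))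
  have hJQ : J ≤ Q := Ideal.span_le.mpr (by rintro _ ⟨c, rfl⟩; exact h c)
  have hJQ' : J ≤ Q' := Ideal.span_le.mpr (by rintro _ ⟨c, rfl⟩; exact h' c)
  have hpoly : ∀ p : (algebraicClosure K F)[X],
      (aeval (α : L) p) ⊗ₜ[K] (1 : F) - ψ (p.map (algebraMap (algebraicClosure K F) F)) ∈ J := fun p => by
    induction p using Polynomial.induction_on' with
    | add p q hp hq =>
      rw [map_add, TensorProduct.add_tmul, Polynomial.map_add, map_add, add_sub_add_comm]
      exact J.add_mem hp hq
    | monomial n c =>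
      have e1 : (aeval (α : L) (monomial n c)) ⊗ₜ[K] (1 : F) =
          (τ c ⊗ₜ[K] (1 : F)) * ((α : L) ⊗ₜ[K] (1 : F)) ^ n := by
        rw [aeval_monomial, Algebra.TensorProduct.tmul_pow, one_pow, Algebra.TensorProduct.tmul_mul_tmul, mul_one]
        rfl
      have e2 : ψ ((monomial n c).map (algebraMap (algebraicClosure K F) F)) =
          ((1 : L) ⊗ₜ[K] (c : F)) * ((α : L) ⊗ₜ[K] (1 : F)) ^ n := by
        rw [Polynomial.map_monomial]
        exact eval₂_monomial _ _
      rw [e1, e2, ← sub_mul]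
      exact J.mul_mem_right _ (Ideal.subset_span ⟨c, rfl⟩)
  obtain ⟨p, hp⟩ : ∃ p : F[X], x - ψ p ∈ J := by
    have hmem : ∀ i ∈ s, i.1 ∈ L0 := fun i hi =>
      IntermediateField.subset_adjoin _ _ (Finset.mem_image_of_mem Prod.fst hi)
    choose! q hq using fun i (hi : i ∈ s) => hrep i.1 (hmem i hi)
    refine ⟨∑ i ∈ s, (q i).map (algebraMap (algebraicClosure K F) F) * C i.2, ?_⟩
    rw [hs, map_sum, ← Finset.sum_sub_distrib]
    refine Ideal.sum_mem _ fun i hi => ?_
    have e : ψ (C i.2) = (1 : L) ⊗ₜ[K] i.2 := eval₂_C _ _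
    rw [map_mul, e, show i.1 ⊗ₜ[K] i.2 = (i.1 ⊗ₜ[K] (1 : F)) * ((1 : L) ⊗ₜ[K] i.2) by
      rw [Algebra.TensorProduct.tmul_mul_tmul, mul_one, one_mul], ← sub_mul, ← hq i hi]
    exact J.mul_mem_right _ (hpoly (q i))
  -- the kernel in `F[X]` is generated by the minimal polynomial
  set g := minpoly (algebraicClosure K F) (α : L) with hg
  set gF := g.map (algebraMap (algebraicClosure K F) F) with hgF
  have hgJ : ψ gF ∈ J := by
    have := hpoly g
    rw [hg, minpoly.aeval, TensorProduct.zero_tmul, zero_sub, neg_mem_iff] at this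
    exact this
  have hirr : Irreducible gF := by
    have hgm : g.Monic := minpoly.monic hαi
    have hgi : Irreducible g := minpoly.irreducible hαi
    refine ((hgm.map (algebraMap (algebraicClosure K F) F)).irreducible_iff_natDegree').mpr
      ⟨fun h1 => hgi.not_isUnit ?_, fun a b ha hb hab hdeg => ?_⟩
    · refine isUnit_iff_degree_eq_zero.mpr ?_
      rw [← degree_map g (algebraMap (algebraicClosure K F) F), h1, degree_one]
    · -- coefficients of a monic factor are algebraic
      have hlift : ∀ q : F[X], q.Monic → q ∣ gF → ∃ q₀ : (algebraicClosure K F)[X],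
          q₀.map (algebraMap (algebraicClosure K F) F) = q ∧ q₀.Monic := by
        intro q hq hd
        have h2 := integralClosure.mem_lifts_of_monic_of_dvd_map F hgm hq hd
        rw [lifts_iff_coeff_lifts] at h2
        have h3 : q ∈ lifts (algebraMap (algebraicClosure K F) F) := by
          rw [lifts_iff_coeff_lifts]
          intro m
          obtain ⟨y, hy⟩ := h2 m
          have hy2 : IsIntegral K (q.coeff m) := by
            haveI : Algebra.IsIntegral K (algebraicClosure K F) := inferInstance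
            exact isIntegral_trans (R := K) (A := algebraicClosure K F) _ (hy ▸ y.2)
          exact ⟨⟨q.coeff m, mem_algebraicClosure_iff.mpr hy2.isAlgebraic⟩, rfl⟩
        obtain ⟨q₀, hq₀, -, hq₀m⟩ := lifts_and_degree_eq_and_monic h3 hq
        exact ⟨q₀, hq₀, hq₀m⟩
      obtain ⟨a₀, ha₀, ha₀m⟩ := hlift a ha ⟨b, hab.symm⟩
      obtain ⟨b₀, hb₀, hb₀m⟩ := hlift b hb ⟨a, hab.symm.trans (mul_comm a b)⟩
      have hab₀ : a₀ * b₀ = g := Polynomial.map_injective _ (algebraMap (algebraicClosure K F) F).injective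
        (by rw [Polynomial.map_mul, ha₀, hb₀, hab])
      rw [natDegree_map, ← hb₀, natDegree_map, Finset.mem_Ioc] at hdeg
      rcases hgi.isUnit_or_isUnit hab₀.symm with hu | hu
      · rw [ha₀m.eq_one_of_isUnit hu, one_mul] at hab₀
        rw [hab₀] at hdeg
        omega
      · rw [hb₀m.eq_one_of_isUnit hu, natDegree_one] at hdeg
        omega
  have key : ∀ (P : Ideal (L ⊗[K] F)), P.IsPrime → J ≤ P → (P.comap ψ) = Ideal.span {gF} := by
    intro P hP hJP
    haveI := hP
    have hle : Ideal.span {gF} ≤ P.comap ψ :=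
      (Ideal.span_singleton_le_iff_mem _).mpr (hJP hgJ)
    exact ((PrincipalIdealRing.isMaximal_of_irreducible hirr).eq_of_le (Ideal.IsPrime.comap ψ).ne_top hle).symm
  have hpQ : p ∈ Q.comap ψ := by
    rw [Ideal.mem_comap, show ψ p = x - (x - ψ p) by ring]
    exact Q.sub_mem hx (hJQ hp)
  rw [key Q inferInstance hJQ, ← key Q' inferInstance hJQ', Ideal.mem_comap] at hpQ
  rw [show x = ψ p + (x - ψ p) by ring]
  exact Q'.add_mem hpQ (hJQ' hp)

/-- If the algebraic part of `F` is finite then `L ⊗ F` has finitely many primes. -/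
theorem finite_primeSpectrum_tensor [FiniteDimensional K (algebraicClosure K F)] :
    Finite (PrimeSpectrum (L ⊗[K] F)) := by
  have hex : ∀ Q : PrimeSpectrum (L ⊗[K] F), ∃ τ : algebraicClosure K F →ₐ[K] L,
      ∀ c, τ c ⊗ₜ[K] (1 : F) - 1 ⊗ₜ[K] (c : F) ∈ Q.asIdeal := by
    intro Q
    let π : L ⊗[K] F →ₐ[K] (L ⊗[K] F) ⧸ Q.asIdeal := Ideal.Quotient.mkₐ K Q.asIdeal
    let iL : L →ₐ[K] (L ⊗[K] F) ⧸ Q.asIdeal := π.comp Algebra.TensorProduct.includeLeft
    let iF : algebraicClosure K F →ₐ[K] (L ⊗[K] F) ⧸ Q.asIdeal :=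
      (π.comp Algebra.TensorProduct.includeRight).comp (algebraicClosure K F).val
    have hmem : ∀ c, ∃ l, iL l = iF c := fun c => by
      have hc : IsIntegral K (iF c) := (Algebra.IsAlgebraic.isAlgebraic (R := K) c).isIntegral.map iF
      have hc' : IsIntegral L (iF c) := hc.tower_top
      have hroot : (minpoly L (iF c)).degree = 1 := IsAlgClosed.degree_eq_one_of_irreducible L (minpoly.irreducible hc')
      obtain ⟨l, hl⟩ := minpoly.mem_range_of_degree_eq_one L (iF c) hroot
      exact ⟨l, hl⟩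
    choose τ₀ hτ₀ using hmem
    have hinj : Function.Injective iL := iL.toRingHom.injective
    let τ : algebraicClosure K F →ₐ[K] L :=
      { toFun := τ₀
        map_one' := hinj (by rw [hτ₀, map_one, map_one])
        map_mul' := fun a b => hinj (by rw [hτ₀, map_mul, map_mul, hτ₀, hτ₀])
        map_zero' := hinj (by rw [hτ₀, map_zero, map_zero])
        map_add' := fun a b => hinj (by rw [hτ₀, map_add, map_add, hτ₀, hτ₀])
        commutes' := fun k => hinj (by rw [hτ₀, AlgHom.commutes, AlgHom.commutes]) }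
    exact ⟨τ, fun c => Ideal.Quotient.eq.mp (hτ₀ c)⟩
  choose τ hτ using hex
  refine Finite.of_injective τ fun Q Q' h => PrimeSpectrum.ext (le_antisymm ?_ ?_)
  · exact prime_le_of_agree K L F (τ Q) Q.asIdeal Q'.asIdeal (hτ Q) (h ▸ hτ Q')
  · exact prime_le_of_agree K L F (τ Q) Q'.asIdeal Q.asIdeal (h ▸ hτ Q') (hτ Q)

end Groth.Agent.MilnorFib
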