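import Mathlib
import Groth.Agent.MilnorFib.Degree
import Groth.Agent.MilnorFib.TensorPrimes
import Groth.Agent.UnibranchEtale.Neighbourhood
import Groth.Agent.DvrDom.Basic

/-!
Finiteness of the components of an algebraic Milnor fibre.
-/

set_option autoImplicit false
set_option linter.style.haveILetI false

universe u

open IsLocalRing TensorProduct

namespace Groth.Agent.MilnorFib

theorem finite_connectedComponents (C : Type u) [CommRing C] (h : (minimalPrimes C).Finite) :
    Finite (ConnectedComponents (PrimeSpectrum C)) := by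
  haveI := h.to_subtype
  refine Finite.of_surjective
    (fun p : minimalPrimes C => ConnectedComponents.mk (⟨p.1, p.2.1.1⟩ : PrimeSpectrum C)) fun c => ?_
  obtain ⟨x, rfl⟩ := ConnectedComponents.surjective_coe c
  obtain ⟨p, hp, hpx⟩ := Ideal.exists_minimalPrimes_le (bot_le : (⊥ : Ideal C) ≤ x.asIdeal)
  refine ⟨⟨p, hp⟩, (ConnectedComponents.coe_eq_coe'.mpr ?_).symm⟩
  exact (isPreconnected_singleton.closure).subset_connectedComponent
    (subset_closure rfl) (((PrimeSpectrum.le_iff_specializes ⟨p, hp.1.1⟩ x).1 hpx).mem_closure)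

/-- The primes of a base change over a given prime are finitely many if the fibre ring has finitely many. -/
theorem finite_over (B L V : Type u) [CommRing V] [CommRing B] [CommRing L] [Algebra V B] [Algebra V L]
    (P : Ideal B) [P.IsPrime]
    (h : Finite (PrimeSpectrum (P.ResidueField ⊗[V] L))) :
    {Q : Ideal (B ⊗[V] L) | Q.IsPrime ∧ Q.comap (algebraMap B (B ⊗[V] L)) = P}.Finite := by
  let e : P.ResidueField ⊗[B] (B ⊗[V] L) ≃ₐ[P.ResidueField] P.ResidueField ⊗[V] L :=
    Algebra.TensorProduct.cancelBaseChange V B P.ResidueField P.ResidueField L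
  haveI : Finite (PrimeSpectrum (P.ResidueField ⊗[B] (B ⊗[V] L))) :=
    Finite.of_equiv _ (PrimeSpectrum.comapEquiv e.toRingEquiv).symm.toEquiv
  haveI hfin := Finite.of_equiv _ (PrimeSpectrum.preimageEquivFiber B (B ⊗[V] L) ⟨P, inferInstance⟩).symm
  let S0 := PrimeSpectrum.comap (algebraMap B (B ⊗[V] L)) ⁻¹' {⟨P, inferInstance⟩}
  have hS0 : S0.Finite := Set.finite_coe_iff.mp hfin
  refine (hS0.image PrimeSpectrum.asIdeal).subset ?_
  rintro Q ⟨hQ, hQP⟩
  exact ⟨⟨Q, hQ⟩, PrimeSpectrum.ext hQP, rfl⟩

variable (V : Type u) [CommRing V] [IsDomain V] [IsDiscreteValuationRing V] [HenselianLocalRing V]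
  [IsAlgClosed (ResidueField V)] [CharZero V]
  (L : Type u) [Field L] [IsAlgClosed L] [Algebra V L] [FaithfulSMul V L] [Algebra.IsAlgebraic V L]

theorem finiteDimensional_residue (K : Type u) [Field K] [Algebra V K] [IsFractionRing V K]
    (B : Type u) [CommRing B] [IsLocalRing B] [IsNoetherianRing B] [Algebra V B]
    [IsLocalHom (algebraMap V B)] (π : V) (hπ : Irreducible π) (P : Ideal B) [P.IsPrime]
    [Algebra K P.ResidueField] [IsScalarTower V K P.ResidueField]
    (hP : algebraMap V B π ∉ P) : FiniteDimensional K (algebraicClosure K P.ResidueField) := by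
  have hπm : π ∈ maximalIdeal V := (mem_maximalIdeal π).mpr hπ.not_isUnit
  have hπB : algebraMap V B π ∈ maximalIdeal B :=
    (mem_maximalIdeal _).mpr (map_nonunit (algebraMap V B) π hπm)
  haveI : IsLocalRing (B ⧸ P) :=
    haveI : Nontrivial (B ⧸ P) := Ideal.Quotient.nontrivial_iff.mpr (Ideal.IsPrime.ne_top inferInstance)
    IsLocalRing.of_surjective' (Ideal.Quotient.mk P) Ideal.Quotient.mk_surjective
  haveI : IsLocalHom (Ideal.Quotient.mk P) := IsLocalHom.of_surjective _ Ideal.Quotient.mk_surjective
  have hπA : Ideal.Quotient.mk P (algebraMap V B π) ∈ maximalIdeal (B ⧸ P) :=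
    (mem_maximalIdeal _).mpr (map_nonunit (Ideal.Quotient.mk P) _ hπB)
  have hnf : ¬ IsField (B ⧸ P) := fun hf => hP (by
    rw [IsLocalRing.isField_iff_maximalIdeal_eq.mp hf, Ideal.mem_bot] at hπA
    exact Ideal.Quotient.eq_zero_iff_mem.mp hπA)
  obtain ⟨O, hO, hA, hdom⟩ := DvrDom.exists_dvr_dominating (A := B ⧸ P) hnf P.ResidueField
  haveI := hO
  have hcomp : ∀ v : V, algebraMap (B ⧸ P) P.ResidueField (Ideal.Quotient.mk P (algebraMap V B v)) =
      algebraMap V P.ResidueField v := fun v => by
    rw [IsScalarTower.algebraMap_apply V B P.ResidueField]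
    rfl
  have hV : ∀ v : V, algebraMap V P.ResidueField v ∈ O := fun v => hcomp v ▸ hA _
  have hπO : (⟨algebraMap V P.ResidueField π, hV π⟩ : O) ∈ maximalIdeal O :=
    (O.valuation_lt_one_iff _).mpr (show O.valuation (algebraMap V P.ResidueField π) < 1 from
      hcomp π ▸ hdom _ hπA)
  exact finiteDimensional_algebraicClosure V K P.ResidueField O hV π hπ hπO

theorem finite_primeSpectrum_residue (B : Type u) [CommRing B] [IsLocalRing B] [IsNoetherianRing B] [Algebra V B]
    [IsLocalHom (algebraMap V B)] (π : V) (hπ : Irreducible π) (P : Ideal B) [P.IsPrime]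
    (hP : algebraMap V B π ∉ P) : Finite (PrimeSpectrum (P.ResidueField ⊗[V] L)) := by
  have hπF : algebraMap V P.ResidueField π ≠ 0 := fun h => hP (by
    rwa [IsScalarTower.algebraMap_apply V B, Ideal.algebraMap_residueField_eq_zero] at h)
  haveI : FaithfulSMul V P.ResidueField := by
    rw [faithfulSMul_iff_algebraMap_injective, injective_iff_map_eq_zero]
    intro v hv
    by_contra hv0
    obtain ⟨n, u, rfl⟩ := IsDiscreteValuationRing.eq_unit_mul_pow_irreducible hv0 hπ
    rw [map_mul, map_pow] at hv
    exact ((u.isUnit.map (algebraMap V P.ResidueField)).ne_zero)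
      ((mul_eq_zero.mp hv).resolve_right (pow_ne_zero _ hπF))
  let K := FractionRing V
  letI : Algebra K L := FractionRing.liftAlgebra V L
  letI : Algebra K P.ResidueField := FractionRing.liftAlgebra V P.ResidueField
  haveI : CharZero K := charZero_of_injective_ringHom (IsFractionRing.injective V K)
  haveI : Algebra.IsAlgebraic K L := (IsFractionRing.comap_isAlgebraic_iff (A := V) (K := K) (C := L)).mp inferInstance
  haveI := finiteDimensional_residue V K B π hπ P hP
  haveI := finite_primeSpectrum_tensor K L P.ResidueField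
  let e : P.ResidueField ⊗[K] L ≃ₐ[V] P.ResidueField ⊗[V] L :=
    Algebra.TensorProduct.equivOfCompatibleSMul V K V P.ResidueField L
  exact Finite.of_equiv _ ((PrimeSpectrum.comapEquiv (Algebra.TensorProduct.comm K P.ResidueField L).toRingEquiv).symm.toEquiv.trans
    (PrimeSpectrum.comapEquiv e.toRingEquiv).toEquiv)

theorem finite_components (B : Type u) [CommRing B] [IsLocalRing B] [IsNoetherianRing B] [Algebra V B]
    [IsLocalHom (algebraMap V B)] : Finite (ConnectedComponents (PrimeSpectrum (L ⊗[V] B))) := by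
  classical
  obtain ⟨π, hπ⟩ := IsDiscreteValuationRing.exists_irreducible V
  haveI : Module.IsTorsionFree V L := FaithfulSMul.to_isTorsionFree V L
  haveI : Module.Flat V L := inferInstance
  haveI : Module.Flat B (B ⊗[V] L) := inferInstance
  refine finite_connectedComponents _ ?_
  have hC : (minimalPrimes (B ⊗[V] L)).Finite := by
    have hfin := minimalPrimes.finite_of_isNoetherianRing B
    refine ((hfin.biUnion (t := fun P => {Q : Ideal (B ⊗[V] L) | Q ∈ minimalPrimes (B ⊗[V] L) ∧
      Q.comap (algebraMap B (B ⊗[V] L)) = P})) fun P hP => ?_).subset fun Q hQ =>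
        Set.mem_biUnion (UnibranchEtale.comap_mem_minimalPrimes hQ) ⟨hQ, rfl⟩
    haveI := hP.1.1
    by_cases hπP : algebraMap V B π ∈ P
    · refine Set.finite_empty.subset fun Q hQ => ?_
      haveI := hQ.1.1.1
      have h1 : algebraMap V (B ⊗[V] L) π ∈ Q := by
        rw [IsScalarTower.algebraMap_apply V B (B ⊗[V] L), ← Ideal.mem_comap, hQ.2]
        exact hπP
      refine (Ideal.IsPrime.ne_top inferInstance) (Ideal.eq_top_of_isUnit_mem Q h1 ?_)
      have hu : IsUnit (algebraMap V L π) := Ne.isUnit
        fun h => hπ.ne_zero (FaithfulSMul.algebraMap_injective V L (h.trans (map_zero _).symm))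
      rw [← (Algebra.TensorProduct.includeRight : L →ₐ[V] B ⊗[V] L).commutes]
      exact hu.map _
    · exact (finite_over B L V P (finite_primeSpectrum_residue V L B π hπ P hπP)).subset
        fun Q hQ => ⟨hQ.1.1.1, hQ.2⟩
  have e := (Algebra.TensorProduct.comm V L B).toRingEquiv
  rw [minimalPrimes] at hC ⊢
  refine (hC.image (Ideal.comap e.toRingHom)).subset ?_
  rw [← Ideal.comap_minimalPrimes_eq_of_surjective (f := e.toRingHom) e.surjective,
    ← RingHom.ker_eq_comap_bot, (RingHom.injective_iff_ker_eq_bot e.toRingHom).mp e.injective]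

end Groth.Agent.MilnorFib
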