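import Mathlib
import Groth.Agent.MilnorFib.Main
import Groth.Agent.DeltaBC.Tensor

/-!
The algebraic Milnor fibre is noetherian.
-/

set_option autoImplicit false
set_option linter.style.haveILetI false

universe u

open IsLocalRing TensorProduct

namespace Groth.Agent.MilnorFib

/-- An algebraic closure tensored with a field in which the base is algebraically closed is a domain. -/
theorem isDomain_tensor (K L F : Type u) [Field K] [CharZero K] [Field L] [Algebra K L] [IsAlgClosed L]
    [Algebra.IsAlgebraic K L] [Field F] [Algebra K F] (h : algebraicClosure K F = ⊥) : IsDomain (L ⊗[K] F) := by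
  haveI : FiniteDimensional K (algebraicClosure K F) := by rw [h]; infer_instance
  haveI : Algebra.IsSeparable K L := inferInstance
  haveI := DeltaBC.isReduced_tensor_sep K L F
  haveI : IsReduced (L ⊗[K] F) :=
    isReduced_of_injective (Algebra.TensorProduct.comm K L F) (AlgEquiv.injective _)
  haveI : Nontrivial (L ⊗[K] F) := inferInstance
  have hsub : ∀ Q Q' : Ideal (L ⊗[K] F), Q.IsPrime → Q'.IsPrime → Q ≤ Q' := fun Q Q' hQ hQ' => by
    have hc : ∀ c : algebraicClosure K F, ∃ a : K, algebraMap K F a = (c : F) := fun c => by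
      have h1 : (c : F) ∈ (⊥ : IntermediateField K F) := h ▸ c.2
      exact IntermediateField.mem_bot.mp h1
    let τ : algebraicClosure K F →ₐ[K] L :=
      (Algebra.ofId K L).comp ((IntermediateField.botEquiv K F).toAlgHom.comp (IntermediateField.inclusion h.le))
    have hτ : ∀ (P : Ideal (L ⊗[K] F)) (c : algebraicClosure K F),
        τ c ⊗ₜ[K] (1 : F) - 1 ⊗ₜ[K] (c : F) ∈ P := fun P c => by
      obtain ⟨a, ha⟩ := hc c
      have hτc : τ c = algebraMap K L a := by
        rw [show c = algebraMap K (algebraicClosure K F) a from Subtype.ext ha.symm]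
        exact τ.commutes a
      rw [hτc, ← ha, Algebra.algebraMap_eq_smul_one, Algebra.algebraMap_eq_smul_one, TensorProduct.smul_tmul,
        sub_self]
      exact P.zero_mem
    exact @prime_le_of_agree K L F _ _ _ _ _ _ _ _ τ Q Q' hQ hQ' (hτ Q) (hτ Q')
  obtain ⟨Q, hQ⟩ := Ideal.exists_maximal (L ⊗[K] F)
  have : (⊥ : Ideal (L ⊗[K] F)) = Q := by
    refine le_antisymm bot_le fun x hx => ?_
    have : IsNilpotent x := by
      rw [← mem_nilradical, nilradical_eq_sInf]
      exact Ideal.mem_sInf.mpr fun {J} hJ => hsub Q J hQ.isPrime hJ hx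
    rw [Ideal.mem_bot]
    exact this.eq_zero
  haveI : (⊥ : Ideal (L ⊗[K] F)).IsPrime := this ▸ hQ.isPrime
  exact IsDomain.of_bot_isPrime _

/-- A prime with geometrically connected contraction is extended from it. -/
theorem fg_of_isDomain (K L R : Type u) [Field K] [Field L] [Algebra K L] [Algebra.IsAlgebraic K L] [CommRing R]
    [IsNoetherianRing R] [Algebra K R] (Q : Ideal (L ⊗[K] R)) [Q.IsPrime] (P : Ideal R) [P.IsPrime]
    (hP : P = Q.comap (Algebra.TensorProduct.includeRight : R →ₐ[K] L ⊗[K] R).toRingHom)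
    (hdom : IsDomain (L ⊗[K] P.ResidueField)) : Q.FG := by
  let ι := (Algebra.TensorProduct.includeRight : R →ₐ[K] L ⊗[K] R)
  let J : Ideal (L ⊗[K] R) := P.map ι
  let β : R ⧸ P →ₐ[K] P.ResidueField := IsScalarTower.toAlgHom K (R ⧸ P) P.ResidueField
  let f₁ := Algebra.TensorProduct.map (AlgHom.id K L) (Ideal.Quotient.mkₐ K P)
  let f₂ := Algebra.TensorProduct.map (AlgHom.id K L) β
  have hf₂ : Function.Injective f₂ :=
    Module.Flat.lTensor_preserves_injective_linearMap β.toLinearMap (IsFractionRing.injective (R ⧸ P) P.ResidueField)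
  have hker : RingHom.ker f₁ = J := by
    rw [Algebra.TensorProduct.lTensor_ker _ (Ideal.Quotient.mkₐ_surjective K P)]
    congr 1
    exact Ideal.mk_ker
  haveI : J.IsPrime := by
    have h1 : (RingHom.ker (f₂.comp f₁).toRingHom).IsPrime := RingHom.ker_isPrime _
    have h2 : RingHom.ker (f₂.comp f₁).toRingHom = RingHom.ker f₁ :=
      RingHom.ker_comp_of_injective f₁.toRingHom (f := f₂.toRingHom) hf₂
    rwa [h2, hker] at h1
  have hJQ : J ≤ Q := Ideal.map_le_iff_le_comap.mpr hP.le
  rcases hJQ.lt_or_eq with hlt | heq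
  · exfalso
    letI : Algebra R (L ⊗[K] R) := ι.toRingHom.toAlgebra
    haveI : Algebra.IsIntegral R (L ⊗[K] R) := ⟨fun z => by
      induction z using TensorProduct.induction_on with
      | zero => exact isIntegral_zero
      | add a b ha hb => exact ha.add hb
      | tmul l r =>
        rw [show l ⊗ₜ[K] r = (l ⊗ₜ[K] (1 : R)) * (algebraMap R (L ⊗[K] R) r) by
          change _ = _ * ((1 : L) ⊗ₜ[K] r)
          rw [Algebra.TensorProduct.tmul_mul_tmul, mul_one, one_mul]]
        refine IsIntegral.mul ?_ isIntegral_algebraMap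
        haveI : IsScalarTower K R (L ⊗[K] R) :=
          IsScalarTower.of_algebraMap_eq fun k => (ι.commutes k).symm
        exact ((Algebra.IsAlgebraic.isAlgebraic (R := K) l).isIntegral.map
          (Algebra.TensorProduct.includeLeft : L →ₐ[K] L ⊗[K] R)).tower_top⟩
    have h3 := Ideal.IsIntegral.comap_lt_comap (R := R) hlt
    have h4 : P ≤ J.comap (algebraMap R (L ⊗[K] R)) := Ideal.map_le_iff_le_comap.mp le_rfl
    exact lt_irrefl _ (lt_of_le_of_lt (hP.ge.trans h4) h3)
  · rw [← heq]; exact Ideal.FG.map (IsNoetherian.noetherian P) _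

variable (V : Type u) [CommRing V] [IsDomain V] [IsDiscreteValuationRing V] [HenselianLocalRing V]
  [IsAlgClosed (ResidueField V)] [CharZero V]
  (L : Type u) [Field L] [IsAlgClosed L] [Algebra V L] [FaithfulSMul V L] [Algebra.IsAlgebraic V L]

theorem finiteType_fractionRing : Algebra.FiniteType V (FractionRing V) := by
  obtain ⟨π, hπ⟩ := IsDiscreteValuationRing.exists_irreducible V
  have hπK : algebraMap V (FractionRing V) π ≠ 0 := fun h =>
    hπ.ne_zero (IsFractionRing.injective V (FractionRing V) (h.trans (map_zero _).symm))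
  refine ⟨⟨{(algebraMap V (FractionRing V) π)⁻¹}, top_le_iff.mp fun x _ => ?_⟩⟩
  obtain ⟨a, b, hb, rfl⟩ := IsFractionRing.div_surjective (A := V) x
  obtain ⟨n, w, rfl⟩ := IsDiscreteValuationRing.eq_unit_mul_pow_irreducible (nonZeroDivisors.ne_zero hb) hπ
  have hw : algebraMap V (FractionRing V) (w : V) * algebraMap V (FractionRing V) ↑w⁻¹ = 1 := by
    rw [← map_mul, Units.mul_inv, map_one]
  rw [map_mul, map_pow, div_eq_mul_inv, mul_inv, ← inv_pow, inv_eq_of_mul_eq_one_right hw]
  refine Subalgebra.mul_mem _ (Subalgebra.algebraMap_mem _ a) (Subalgebra.mul_mem _ (Subalgebra.algebraMap_mem _ _)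
    (Subalgebra.pow_mem _ (Algebra.subset_adjoin (by simp)) n))

omit [IsDomain V] [IsDiscreteValuationRing V] [HenselianLocalRing V] [IsAlgClosed (ResidueField V)]
  [CharZero V] [IsAlgClosed L] [FaithfulSMul V L] [Algebra.IsAlgebraic V L] in
/-- A finite subfield of `L` seeing the algebraic part of `F` inside `Ω`. -/
theorem exists_finite_subfield (K L F Ω : Type u) [Field K] [Field L] [Algebra K L] [IsAlgClosed L]
    [Field F] [Algebra K F] [Field Ω] [Algebra K Ω] (j : L →ₐ[K] Ω) (f : F →ₐ[K] Ω)
    [FiniteDimensional K (algebraicClosure K F)] :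
    ∃ E : IntermediateField K L, FiniteDimensional K E ∧ (∀ x : E, ∃ y : F, f y = j x) ∧
      ∀ y : F, IsAlgebraic K y → ∃ x : E, j x = f y := by
  letI : Algebra L Ω := j.toRingHom.toAlgebra
  haveI : IsScalarTower K L Ω := IsScalarTower.of_algebraMap_eq fun k => (j.commutes k).symm
  have hmem : ∀ c : algebraicClosure K F, ∃ l, j l = f c := fun c => by
    have hc : IsIntegral K (f c) := ((Algebra.IsAlgebraic.isAlgebraic (R := K) c).isIntegral.map
      (algebraicClosure K F).val).map f
    have hc' : IsIntegral L (f c) := hc.tower_top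
    obtain ⟨l, hl⟩ := minpoly.mem_range_of_degree_eq_one L (f c)
      (IsAlgClosed.degree_eq_one_of_irreducible L (minpoly.irreducible hc'))
    exact ⟨l, hl⟩
  choose τ hτ using hmem
  have hinj : Function.Injective j := j.toRingHom.injective
  let τA : algebraicClosure K F →ₐ[K] L :=
    { toFun := τ
      map_one' := hinj (by rw [hτ, map_one]; exact map_one f)
      map_mul' := fun a b => hinj (by rw [hτ, map_mul, hτ, hτ]; exact map_mul f (a : F) (b : F))
      map_zero' := hinj (by rw [hτ, map_zero]; exact map_zero f)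
      map_add' := fun a b => hinj (by rw [hτ, map_add, hτ, hτ]; exact map_add f (a : F) (b : F))
      commutes' := fun k => hinj (by rw [hτ, j.commutes]; exact f.commutes k) }
  refine ⟨τA.fieldRange, LinearEquiv.finiteDimensional (AlgEquiv.ofInjectiveField τA).toLinearEquiv, ?_,
    fun y hy => ⟨⟨τ ⟨y, mem_algebraicClosure_iff.mpr hy⟩, _, rfl⟩, hτ _⟩⟩
  rintro ⟨_, c, rfl⟩
  exact ⟨(c : F), (hτ c).symm⟩

omit [IsDiscreteValuationRing V] [HenselianLocalRing V] [IsAlgClosed (ResidueField V)] [CharZero V]
  [FaithfulSMul V L] in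
/-- The prime is extended from a finite level. -/
theorem fg_prime_of_subfield (B : Type u) [CommRing B] [IsNoetherianRing B] [Algebra V B]
    (E : Type u) [Field E] [CharZero E] [Algebra V E] [Algebra E L] [IsScalarTower V E L] [Algebra.FiniteType V E]
    [Algebra.IsAlgebraic V E] [Algebra.IsAlgebraic E L]
    (Q : Ideal (L ⊗[V] B)) [Q.IsPrime] (P : Ideal B) [P.IsPrime]
    (fF : P.ResidueField →ₐ[V] Q.ResidueField)
    (hfF : ∀ b : B, fF (algebraMap B P.ResidueField b) = algebraMap (L ⊗[V] B) Q.ResidueField (1 ⊗ₜ b))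
    (hE : ∀ x : E, ∃ y, fF y = algebraMap (L ⊗[V] B) Q.ResidueField (algebraMap E L x ⊗ₜ 1))
    (hsurj : ∀ y, IsAlgebraic V y → ∃ x : E, algebraMap (L ⊗[V] B) Q.ResidueField (algebraMap E L x ⊗ₜ 1) = fF y) :
    Q.FG := by
  haveI : IsNoetherianRing (B ⊗[V] E) := Algebra.FiniteType.isNoetherianRing B (B ⊗[V] E)
  haveI : IsNoetherianRing (E ⊗[V] B) :=
    isNoetherianRing_of_ringEquiv (B ⊗[V] E) (Algebra.TensorProduct.comm V B E).toRingEquiv
  let e : L ⊗[E] (E ⊗[V] B) ≃ₐ[L] L ⊗[V] B := Algebra.TensorProduct.cancelBaseChange V E L L B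
  let Q₂ : Ideal (L ⊗[E] (E ⊗[V] B)) := Q.comap e.toRingEquiv.toRingHom
  haveI : Q₂.IsPrime := Ideal.IsPrime.comap _
  let ι₂ : E ⊗[V] B →ₐ[E] L ⊗[E] (E ⊗[V] B) := Algebra.TensorProduct.includeRight
  let P' : Ideal (E ⊗[V] B) := Q₂.comap ι₂.toRingHom
  haveI : P'.IsPrime := Ideal.IsPrime.comap _
  suffices hQ₂ : Q₂.FG by
    have : Q = Q₂.map e.toRingEquiv.toRingHom := (Ideal.map_comap_of_surjective _ e.surjective Q).symm
    rw [this]
    exact hQ₂.map _
  refine fg_of_isDomain E L (E ⊗[V] B) Q₂ P' rfl (isDomain_tensor E L P'.ResidueField ?_)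
  -- `E` is algebraically closed in the residue field
  let eT : P'.ResidueField →+* Q.ResidueField :=
    Ideal.ResidueField.map P' Q (e.toRingEquiv.toRingHom.comp ι₂.toRingHom) rfl
  have heT : ∀ (x : E) (b : B), eT (algebraMap (E ⊗[V] B) P'.ResidueField (x ⊗ₜ[V] b)) =
      algebraMap (L ⊗[V] B) Q.ResidueField (algebraMap E L x ⊗ₜ 1) * fF (algebraMap B P.ResidueField b) := by
    intro x b
    refine (Ideal.ResidueField.map_algebraMap P' Q _ rfl _).trans ?_
    change algebraMap _ _ (Algebra.TensorProduct.cancelBaseChange V E L L B ((1 : L) ⊗ₜ[E] (x ⊗ₜ[V] b))) = _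
    rw [Algebra.TensorProduct.cancelBaseChange_tmul, Algebra.smul_def, mul_one, hfF, ← map_mul,
      Algebra.TensorProduct.tmul_mul_tmul, mul_one, one_mul]
  have hrange : ∀ z : P'.ResidueField, ∃ y : P.ResidueField, fF y = eT z := by
    have hR : ∀ r : E ⊗[V] B, ∃ y : P.ResidueField, fF y = eT (algebraMap (E ⊗[V] B) P'.ResidueField r) := by
      intro r
      induction r using TensorProduct.induction_on with
      | zero => exact ⟨0, by rw [map_zero, map_zero, map_zero]⟩
      | add a b ha hb =>
        obtain ⟨y, hy⟩ := ha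
        obtain ⟨y', hy'⟩ := hb
        exact ⟨y + y', by rw [map_add, map_add, map_add, hy, hy']⟩
      | tmul x b =>
        obtain ⟨y, hy⟩ := hE x
        exact ⟨y * algebraMap B P.ResidueField b, by rw [map_mul, hy, heT]⟩
    intro z
    obtain ⟨a, b, -, rfl⟩ := IsFractionRing.div_surjective (A := (E ⊗[V] B) ⧸ P') z
    obtain ⟨a, rfl⟩ := Ideal.Quotient.mk_surjective a
    obtain ⟨b, rfl⟩ := Ideal.Quotient.mk_surjective b
    obtain ⟨y, hy⟩ := hR a
    obtain ⟨y', hy'⟩ := hR b
    exact ⟨y / y', by rw [map_div₀, map_div₀, hy, hy']; rfl⟩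
  refine IntermediateField.ext fun z => ⟨fun hz => ?_, fun hz => bot_le (α := IntermediateField E _) hz⟩
  rw [mem_algebraicClosure_iff] at hz
  obtain ⟨y, hy⟩ := hrange z
  have hEe : ∀ x : E, eT (algebraMap E P'.ResidueField x) =
      algebraMap (L ⊗[V] B) Q.ResidueField (algebraMap E L x ⊗ₜ 1) := fun x => by
    rw [IsScalarTower.algebraMap_apply E (E ⊗[V] B) P'.ResidueField]
    refine (heT x 1).trans ?_
    rw [map_one, map_one, mul_one]
  have hzV : IsAlgebraic V z := hz.restrictScalars V
  let eTV : P'.ResidueField →ₐ[V] Q.ResidueField :=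
    { eT with
      commutes' := fun v => by
        change eT (algebraMap V P'.ResidueField v) = algebraMap V Q.ResidueField v
        rw [IsScalarTower.algebraMap_apply V E P'.ResidueField, hEe, ← IsScalarTower.algebraMap_apply V E L,
          IsScalarTower.algebraMap_apply V (L ⊗[V] B) Q.ResidueField]
        rfl }
  have hyV : IsAlgebraic V y := by
    rw [← isAlgebraic_algHom_iff fF fF.toRingHom.injective, hy]
    exact hzV.algHom eTV
  obtain ⟨x, hx⟩ := hsurj y hyV
  refine IntermediateField.mem_bot.mpr ⟨x, eT.injective ?_⟩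
  rw [hEe]
  exact hx.trans hy

theorem isNoetherianRing_tensor (B : Type u) [CommRing B] [IsLocalRing B] [IsNoetherianRing B] [Algebra V B]
    [IsLocalHom (algebraMap V B)] : IsNoetherianRing (L ⊗[V] B) := by
  classical
  refine IsNoetherianRing.of_prime fun Q hQ => ?_
  haveI := hQ
  obtain ⟨π, hπ⟩ := IsDiscreteValuationRing.exists_irreducible V
  let ιB : B →ₐ[V] L ⊗[V] B := Algebra.TensorProduct.includeRight
  let P : Ideal B := Q.comap ιB.toRingHom
  haveI : P.IsPrime := Ideal.IsPrime.comap _
  have hπP : algebraMap V B π ∉ P := fun h => by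
    have h1 : algebraMap V (L ⊗[V] B) π ∈ Q := by
      have h2 : ιB (algebraMap V B π) ∈ Q := h
      rwa [ιB.commutes] at h2
    refine hQ.ne_top (Ideal.eq_top_of_isUnit_mem Q h1 ?_)
    rw [IsScalarTower.algebraMap_apply V L (L ⊗[V] B)]
    exact (Ne.isUnit fun h => hπ.ne_zero (FaithfulSMul.algebraMap_injective V L (h.trans (map_zero _).symm))).map _
  have hπF : algebraMap V P.ResidueField π ≠ 0 := fun h => hπP (by
    rwa [IsScalarTower.algebraMap_apply V B, Ideal.algebraMap_residueField_eq_zero] at h)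
  haveI : FaithfulSMul V P.ResidueField := by
    rw [faithfulSMul_iff_algebraMap_injective, injective_iff_map_eq_zero]
    intro v hv
    by_contra hv0
    obtain ⟨n, w, rfl⟩ := IsDiscreteValuationRing.eq_unit_mul_pow_irreducible hv0 hπ
    rw [map_mul, map_pow] at hv
    exact ((w.isUnit.map (algebraMap V P.ResidueField)).ne_zero)
      ((mul_eq_zero.mp hv).resolve_right (pow_ne_zero _ hπF))
  let φ : L ⊗[V] B →ₐ[V] Q.ResidueField := IsScalarTower.toAlgHom V (L ⊗[V] B) Q.ResidueField
  let jL : L →ₐ[V] Q.ResidueField := φ.comp Algebra.TensorProduct.includeLeft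
  haveI : FaithfulSMul V Q.ResidueField := by
    rw [faithfulSMul_iff_algebraMap_injective]
    have : ⇑(algebraMap V Q.ResidueField) = jL ∘ algebraMap V L := funext fun v => (jL.commutes v).symm
    rw [this]
    exact jL.toRingHom.injective.comp (FaithfulSMul.algebraMap_injective V L)
  let fF : P.ResidueField →ₐ[V] Q.ResidueField := Ideal.ResidueField.mapₐ P Q ιB rfl
  let K := FractionRing V
  letI : Algebra K L := FractionRing.liftAlgebra V L
  letI : Algebra K P.ResidueField := FractionRing.liftAlgebra V P.ResidueField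
  letI : Algebra K Q.ResidueField := FractionRing.liftAlgebra V Q.ResidueField
  haveI : CharZero K := charZero_of_injective_ringHom (IsFractionRing.injective V K)
  haveI : Algebra.IsAlgebraic K L := (IsFractionRing.comap_isAlgebraic_iff (A := V) (K := K) (C := L)).mp inferInstance
  haveI : FiniteDimensional K (algebraicClosure K P.ResidueField) := finiteDimensional_residue V K B π hπ P hπP
  have hK : ∀ {A : Type u} [Field A] [Algebra V A] [Algebra K A] [IsScalarTower V K A] (g : A →ₐ[V] Q.ResidueField)
      (k : K), g (algebraMap K A k) = algebraMap K Q.ResidueField k := by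
    intro A _ _ _ _ g
    exact RingHom.congr_fun (f := g.toRingHom.comp (algebraMap K A)) (IsLocalization.ringHom_ext (nonZeroDivisors V)
      (RingHom.ext fun v => by
        change g (algebraMap K A (algebraMap V K v)) = algebraMap K Q.ResidueField (algebraMap V K v)
        rw [← IsScalarTower.algebraMap_apply, ← IsScalarTower.algebraMap_apply, g.commutes]))
  obtain ⟨E, hEfin, hE1, hE2⟩ := exists_finite_subfield K L P.ResidueField Q.ResidueField
    { jL with commutes' := hK jL } { fF with commutes' := hK fF }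
  haveI := hEfin
  haveI := finiteType_fractionRing V
  haveI : Algebra.FiniteType V E := Algebra.FiniteType.trans (R := V) (S := K) inferInstance inferInstance
  haveI : Algebra.IsAlgebraic V E :=
    (IsFractionRing.comap_isAlgebraic_iff (A := V) (K := K) (C := E)).mpr inferInstance
  haveI : Algebra.IsAlgebraic E L := Algebra.IsAlgebraic.tower_top (K := K) E
  haveI : CharZero E := charZero_of_injective_ringHom (algebraMap K E).injective
  haveI : IsScalarTower V E L := IsScalarTower.of_algebraMap_eq fun v => by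
    rw [IsScalarTower.algebraMap_apply V K E, IsScalarTower.algebraMap_apply V K L, ← IsScalarTower.algebraMap_apply K E L]
  refine fg_prime_of_subfield V L B E Q P fF (fun b => ?_) (fun x => ?_) fun y hy => ?_
  · exact Ideal.ResidueField.map_algebraMap P Q ιB.toRingHom rfl b
  · exact hE1 x
  · exact hE2 y (hy.extendScalars (IsFractionRing.injective V K))

end Groth.Agent.MilnorFib
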